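import Groth.Agent.L16.Rees.FormalFunctions.Maps

/-!
# The theorem on formal functions
-/

set_option autoImplicit false
set_option linter.style.haveILetI false

universe u

open CategoryTheory CategoryTheory.Limits AlgebraicGeometry TopologicalSpace Opposite

noncomputable section

namespace Groth.L16.Rees

open Formal (modPow modPowπ toHHmodPow HHlim HHmodPow HHmodPowTrans toHHlim)
open Formal2 (modPowLE modPowπ_modPowLE)
open CohLinear (hmap hmap_comp hmap_id overLin)

variable {A : Type u} [CommRing A] (I : Ideal A) {X : Scheme.{u}} [X.Over (Spec (CommRingCat.of A))]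
  (F : X.Modules)

/-- Compatible maps from the quotients give a map from the completion to the limit. -/
def liftCompletion {R : Type u} [CommRing R] (J : Ideal R) {M : Type u} [AddCommGroup M] [Module R M]
    {G : ℕ → Type u} [∀ n, AddCommGroup (G n)] (t : ∀ n, G (n + 1) →+ G n) (L : AddSubgroup (∀ n, G n))
    (hL : ∀ x, (∀ n, t n (x (n + 1)) = x n) → x ∈ L)
    (q : ∀ n, (M ⧸ (J ^ (n + 1) • ⊤ : Submodule R M)) →+ G n)
    (hq : ∀ n (z : M), t n (q (n + 1) (Submodule.Quotient.mk z)) = q n (Submodule.Quotient.mk z)) :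
    AdicCompletion J M →+ L where
  toFun x := ⟨fun n => q n (x.val (n + 1)), hL _ fun n => by
    obtain ⟨z, hz⟩ := Submodule.Quotient.mk_surjective _ (x.val (n + 1 + 1))
    have h1 : x.val (n + 1) = Submodule.Quotient.mk z := by
      rw [← x.2 (Nat.le_succ (n + 1))]
      exact (congrArg (AdicCompletion.transitionMap J _ (Nat.le_succ (n + 1))) hz.symm).trans rfl
    exact ((congrArg (fun w => t n (q (n + 1) w)) hz.symm).trans
      (hq n z)).trans (congrArg (q n) h1).symm⟩
  map_zero' := by
    ext n
    exact map_zero (q n)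
  map_add' x y := by
    ext n
    exact map_add (q n) _ _

theorem liftCompletion_of {R : Type u} [CommRing R] (J : Ideal R) {M : Type u} [AddCommGroup M] [Module R M]
    {G : ℕ → Type u} [∀ n, AddCommGroup (G n)] (t : ∀ n, G (n + 1) →+ G n) (L : AddSubgroup (∀ n, G n))
    (hL : ∀ x, (∀ n, t n (x (n + 1)) = x n) → x ∈ L)
    (q : ∀ n, (M ⧸ (J ^ (n + 1) • ⊤ : Submodule R M)) →+ G n)
    (hq : ∀ n (z : M), t n (q (n + 1) (Submodule.Quotient.mk z)) = q n (Submodule.Quotient.mk z))
    (z : M) (y : L) (hy : ∀ n, y.1 n = q n (Submodule.Quotient.mk z)) :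
    liftCompletion J t L hL q hq (AdicCompletion.of J M z) = y :=
  Subtype.ext (funext fun n => (hy n).symm)

/-- The comparison map from the completion. -/
def ofCompletion (p : ℕ) : AdicCompletion I (Coh.HH X F p) →+ HHlim I F p :=
  liftCompletion I (HHmodPowTrans I F p) (HHlim I F p) (fun _ h => h)
    (fun n => (toQuot I F p n).toAddMonoidHom) (fun n z => trans_toHHmodPow I F p n z)

theorem ofCompletion_of (p : ℕ) (x : Coh.HH X F p) :
    ofCompletion I F p (AdicCompletion.of I _ x) = toHHlim I F p x :=
  liftCompletion_of I _ _ _ _ _ x _ fun _ => rfl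

end Groth.L16.Rees
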