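import Groth.Agent.L16.Rees.Consequences

/-!
# The theorem on formal functions
-/

set_option autoImplicit false
set_option linter.style.haveILetI false

universe u

open CategoryTheory CategoryTheory.Limits AlgebraicGeometry TopologicalSpace Opposite

noncomputable section

namespace Groth.L16.Rees

open Formal (modPow modPowπ toHHmodPow HHlim HHmodPow HHmodPowTrans toHHlim)
open Formal2 (modPowLE modPowπ_modPowLE)
open CohLinear (hmap hmap_comp hmap_id overLin)

variable {A : Type u} [CommRing A] (I : Ideal A) {X : Scheme.{u}} [X.Over (Spec (CommRingCat.of A))]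
  (F : X.Modules)

theorem trans_toHHmodPow (p n : ℕ) (x : Coh.HH X F p) :
    HHmodPowTrans I F p n (toHHmodPow I F p (n + 1) x) = toHHmodPow I F p n x :=
  (toHHlim I F p x).2 n

theorem modPowLE_toHHmodPow (p : ℕ) {n k : ℕ} (h : n ≤ k) (x : Coh.HH X F p) :
    hmap (modPowLE I (Nat.succ_le_succ h) F) p (toHHmodPow I F p k x) = toHHmodPow I F p n x := by
  rw [toHHmodPow_apply, toHHmodPow_apply, ← hmap_comp, modPowπ_modPowLE]

/-- Compatible families are compatible along all transition maps. -/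
theorem HHlim_compat {p : ℕ} (y : HHlim I F p) {n k : ℕ} (h : n ≤ k) :
    hmap (modPowLE I (Nat.succ_le_succ h) F) p (y.1 k) = y.1 n := by
  haveI : ∀ m, Epi (modPowπ I m F) := fun m => inferInstanceAs (Epi (cokernel.π _))
  induction k, h using Nat.le_induction with
  | base =>
    have : modPowLE I (le_refl (n + 1)) F = 𝟙 _ := by
      rw [← cancel_epi (modPowπ I (n + 1) F), modPowπ_modPowLE, Category.comp_id]
    rw [this, hmap_id]
  | succ k hk ih =>
    have : modPowLE I (Nat.succ_le_succ (hk.trans k.le_succ)) F =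
        Formal.modPowTrans I (k + 1) F ≫ modPowLE I (Nat.succ_le_succ hk) F := by
      rw [← cancel_epi (modPowπ I (k + 1 + 1) F), modPowπ_modPowLE, ← Category.assoc, Formal.modPowπ_trans,
        modPowπ_modPowLE]
    rw [this, hmap_comp]
    exact (congrArg (hmap (modPowLE I (Nat.succ_le_succ hk) F) p) (y.2 k)).trans ih

/-- `Hᵖ(X, F)/Iⁿ⁺¹ ⟶ Hᵖ(X, F/Iⁿ⁺¹F)`. -/
def toQuot (p n : ℕ) :
    (Coh.HH X F p ⧸ (I ^ (n + 1) • ⊤ : Submodule A (Coh.HH X F p))) →ₗ[A] HHmodPow I F p n :=
  Submodule.liftQ _ (overLin A (hmap (modPowπ I (n + 1) F) p)) (Submodule.smul_le.2 fun _ ha x _ =>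
    smul_mem_ker I F ha x)

theorem toQuot_mk (p n : ℕ) (x : Coh.HH X F p) :
    toQuot I F p n (Submodule.Quotient.mk x) = toHHmodPow I F p n x := rfl

end Groth.L16.Rees
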